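import Mathlib

/-!
Counting end game for the pair criterion of p-solubility, Sylow group elementary abelian
of order `q`, rank at most two. `d` : degrees, `m` : multiplicity of the trivial character
of the Sylow group, `e` : order of the automiser, `t` : bound for a point stabiliser.
-/

namespace Cfsg.Agent.PairSol36

open Finset

set_option maxHeartbeats 800000 in
theorem endgame {ι : Type*} [DecidableEq ι] (B : Finset ι) (one : ι) (h1B : one ∈ B)
    (q e t : ℕ) (d m : ι → ℕ)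
    (hd1 : d one = 1) (hm1 : m one = 1)
    (hmd : ∀ i ∈ B, m i ≤ d i)
    (hM : ∀ i ∈ B, i ≠ one → 0 < d i - m i ∧ e ≤ (d i - m i) * t)
    (he : 2 ≤ e) (hq : 4 ≤ q)
    (ht : t = 1 ∨ 2 * (q - 1) * t < (q - 2) ^ 2)
    (hS : ∑ i ∈ B, ((q : ℝ) * m i - d i) ^ 2 = ((q : ℝ) - 1) * q * e)
    (hD : ∑ i ∈ B, ((q : ℝ) * m i - d i) ^ 2 * ((m i : ℝ) / d i) = ((q : ℝ) - 1) ^ 2 * e) :
    False := by
  have hq1 : (4 : ℝ) ≤ q := by exact_mod_cast hq
  have he1 : (2 : ℝ) ≤ e := by exact_mod_cast he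
  set W : ι → ℝ := fun i => ((q : ℝ) * m i - d i) ^ 2 with hW
  set M : ι → ℝ := fun i => (d i : ℝ) - m i with hMdef
  have hdpos : ∀ i ∈ B, (0 : ℝ) < d i := by
    intro i hi
    by_cases h : i = one
    · subst h; simp [hd1]
    · have := (hM i hi h).1
      have : 0 < d i := by omega
      exact_mod_cast this
  have hdef : ∑ i ∈ B, W i * (M i / d i) = ((q : ℝ) - 1) * e := by
    have : ∀ i ∈ B, W i * (M i / d i) = W i - W i * ((m i : ℝ) / d i) := by
      intro i hi
      have := hdpos i hi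
      simp only [hMdef]
      field_simp
    rw [Finset.sum_congr rfl this, Finset.sum_sub_distrib]
    simp only [hW]
    rw [hS, hD]; ring
  have hsplitS : W one + ∑ i ∈ B.erase one, W i = ((q : ℝ) - 1) * q * e := by
    rw [Finset.add_sum_erase _ _ h1B]; exact hS
  have hW1 : W one = ((q : ℝ) - 1) ^ 2 := by simp [hW, hd1, hm1]
  have hdef' : ∑ i ∈ B.erase one, W i * (M i / d i) = ((q : ℝ) - 1) * e := by
    have := Finset.add_sum_erase B (fun i => W i * (M i / d i)) h1B
    simp only [hMdef, hd1, hm1] at this hdef ⊢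
    simp only [Nat.cast_one, sub_self, zero_div, mul_zero, zero_add] at this
    rw [this]; exact hdef
  have hnn : ∀ i, 0 ≤ W i := fun i => sq_nonneg _
  obtain ⟨i, hi, hWi, hhalf⟩ : ∃ i ∈ B.erase one, 0 < W i ∧ 2 * M i ≤ d i := by
    by_contra hno
    push Not at hno
    have hle : ∀ i ∈ B.erase one, W i / 2 ≤ W i * (M i / d i) := by
      intro i hi
      rcases (hnn i).eq_or_lt with h | h
      · simp [← h]
      · have hd := hdpos i (Finset.mem_of_mem_erase hi)
        have := hno i hi h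
        rw [div_le_iff₀ two_pos, mul_assoc]
        refine le_mul_of_one_le_right h.le ?_
        rw [div_mul_eq_mul_div, one_le_div hd]; linarith
    have hR : 0 < ∑ i ∈ B.erase one, W i := by nlinarith
    obtain ⟨j, hj, hjp⟩ : ∃ j ∈ B.erase one, 0 < W j := by
      by_contra hno'
      push Not at hno'
      exact absurd hR (not_lt.2 (Finset.sum_nonpos hno'))
    have hlt : ∑ i ∈ B.erase one, W i / 2 < ∑ i ∈ B.erase one, W i * (M i / d i) := by
      refine Finset.sum_lt_sum hle ⟨j, hj, ?_⟩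
      have hd := hdpos j (Finset.mem_of_mem_erase hj)
      have := hno j hj hjp
      rw [div_lt_iff₀ two_pos, mul_assoc]
      refine lt_mul_of_one_lt_right hjp ?_
      rw [div_mul_eq_mul_div, one_lt_div hd]; linarith
    rw [← Finset.sum_div, hdef'] at hlt
    nlinarith [mul_nonneg (sub_nonneg.2 he1) (sub_nonneg.2 hq1)]
  have hiB := Finset.mem_of_mem_erase hi
  have hne := Finset.ne_of_mem_erase hi
  have hdi := hdpos i hiB
  obtain ⟨hMpos, hMt⟩ := hM i hiB hne
  have hMcast : M i = ((d i - m i : ℕ) : ℝ) := by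
    simp only [hMdef]; rw [Nat.cast_sub (hmd i hiB)]
  have hM1 : (1 : ℝ) ≤ M i := by rw [hMcast]; exact_mod_cast hMpos
  have hMt' : (e : ℝ) ≤ M i * t := by rw [hMcast]; exact_mod_cast hMt
  have hterm : W i * (M i / d i) ≤ ((q : ℝ) - 1) * e := by
    rw [← hdef']
    refine Finset.single_le_sum (f := fun i => W i * (M i / d i)) ?_ hi
    intro j hj
    refine mul_nonneg (hnn j) (div_nonneg ?_ (Nat.cast_nonneg _))
    simp only [hMdef]
    exact sub_nonneg.2 (by exact_mod_cast hmd j (Finset.mem_of_mem_erase hj))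
  have hroot : ((q : ℝ) - 2) * (d i / 2) ≤ (q : ℝ) * m i - d i := by
    have : (d i : ℝ) / 2 ≤ m i := by simp only [hMdef] at hhalf; linarith
    nlinarith
  have hWlow : (((q : ℝ) - 2) * (d i / 2)) ^ 2 ≤ W i := by
    simp only [hW]
    exact pow_le_pow_left₀ (mul_nonneg (by linarith) (by linarith)) hroot 2
  have hkey : ((q : ℝ) - 2) ^ 2 * (M i * M i) ≤ 2 * (((q : ℝ) - 1) * e) := by
    have h2 : (((q : ℝ) - 2) * (d i / 2)) ^ 2 * (M i / d i) ≤ ((q : ℝ) - 1) * e :=
      le_trans (mul_le_mul_of_nonneg_right hWlow (div_nonneg (by linarith) hdi.le)) hterm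
    have h3 : (((q : ℝ) - 2) * (d i / 2)) ^ 2 * (M i / d i)
        = ((q : ℝ) - 2) ^ 2 * (M i * d i) / 4 := by
      field_simp
      ring
    rw [h3] at h2
    nlinarith [mul_le_mul_of_nonneg_left hhalf (mul_nonneg (sq_nonneg ((q : ℝ) - 2)) (by linarith : (0:ℝ) ≤ M i))]
  have hkey' : ((q : ℝ) - 2) ^ 2 * M i ≤ 2 * ((q : ℝ) - 1) * t := by
    have : ((q : ℝ) - 2) ^ 2 * M i * M i ≤ 2 * ((q : ℝ) - 1) * t * M i := by
      nlinarith [mul_le_mul_of_nonneg_left hMt' (by linarith : (0:ℝ) ≤ (q : ℝ) - 1)]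
    exact le_of_mul_le_mul_right this (by linarith)
  rcases ht with rfl | ht
  · have hM2 : (2 : ℝ) ≤ M i := by
      have : (e : ℝ) ≤ M i := by simpa using hMt'
      linarith
    rw [Nat.cast_one, mul_one] at hkey'
    have h5 : ((q : ℝ) - 2) ^ 2 * 2 ≤ 2 * ((q : ℝ) - 1) :=
      le_trans (mul_le_mul_of_nonneg_left hM2 (sq_nonneg _)) hkey'
    have h6 : 0 ≤ ((q : ℝ) - 4) * ((q : ℝ) - 1) := mul_nonneg (by linarith) (by linarith)
    linarith [show ((q : ℝ) - 2) ^ 2 = ((q : ℝ) - 4) * ((q : ℝ) - 1) + (q : ℝ) by ring]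
  · have ht' : 2 * ((q : ℝ) - 1) * t < ((q : ℝ) - 2) ^ 2 := by
      have := (Nat.cast_lt (α := ℝ)).2 ht
      push_cast [Nat.cast_sub (by omega : 1 ≤ q), Nat.cast_sub (by omega : 2 ≤ q)] at this
      exact this
    linarith [mul_le_mul_of_nonneg_left hM1 (sq_nonneg ((q : ℝ) - 2))]

/-- Rank one or two supplies the stabiliser hypothesis of `endgame`. -/
theorem stab_bound {p t : ℕ} (hp : 3 ≤ p) (ht : t ≤ p - 1) :
    2 * (p ^ 2 - 1) * t < (p ^ 2 - 2) ^ 2 := by
  have h9 : 9 ≤ p ^ 2 := by nlinarith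
  obtain ⟨k, hk⟩ : ∃ k, p ^ 2 = k + 2 := ⟨p ^ 2 - 2, by omega⟩
  have htp : t + 1 ≤ p := by omega
  rw [hk]
  simp only [Nat.add_sub_cancel]
  have : k + 2 - 1 = k + 1 := by omega
  rw [this]
  have hpp : p * 3 ≤ p ^ 2 := by nlinarith
  nlinarith

/-- Uniform end game when every nontrivial constituent has `d ≤ k * (d - m)`
(e.g. the group is generated by `k` conjugates of the Sylow group). -/
theorem endgame_gen {ι : Type*} [DecidableEq ι] (B : Finset ι) (one : ι) (h1B : one ∈ B)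
    (q e k : ℕ) (d m : ι → ℕ)
    (hd1 : d one = 1) (hm1 : m one = 1)
    (hk : ∀ i ∈ B, i ≠ one → 0 < d i ∧ (d i : ℝ) ≤ k * ((d i : ℝ) - m i))
    (hq : 2 ≤ q) (hbig : k * e + (q - 1) < q * e)
    (hS : ∑ i ∈ B, ((q : ℝ) * m i - d i) ^ 2 = ((q : ℝ) - 1) * q * e)
    (hD : ∑ i ∈ B, ((q : ℝ) * m i - d i) ^ 2 * ((m i : ℝ) / d i) = ((q : ℝ) - 1) ^ 2 * e) :
    False := by
  have hq2 : (2 : ℝ) ≤ q := by exact_mod_cast hq
  have hle : ∀ i ∈ B.erase one, ((q : ℝ) * m i - d i) ^ 2
      ≤ k * (((q : ℝ) * m i - d i) ^ 2 * (1 - (m i : ℝ) / d i)) := by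
    intro i hi
    obtain ⟨h0, h⟩ := hk i (Finset.mem_of_mem_erase hi) (Finset.ne_of_mem_erase hi)
    have hd : (0 : ℝ) < d i := by exact_mod_cast h0
    have : (1 : ℝ) ≤ k * (1 - (m i : ℝ) / d i) := by
      rw [one_sub_div hd.ne', mul_div_assoc', one_le_div hd]; exact h
    calc ((q : ℝ) * m i - d i) ^ 2 = ((q : ℝ) * m i - d i) ^ 2 * 1 := (mul_one _).symm
      _ ≤ ((q : ℝ) * m i - d i) ^ 2 * (k * (1 - (m i : ℝ) / d i)) :=
          mul_le_mul_of_nonneg_left this (sq_nonneg _)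
      _ = _ := by ring
  have h := Finset.sum_le_sum hle
  rw [← Finset.mul_sum] at h
  simp only [mul_sub, mul_one, Finset.sum_sub_distrib] at h
  have e1 := Finset.add_sum_erase B (fun i => ((q : ℝ) * m i - d i) ^ 2) h1B
  have e2 := Finset.add_sum_erase B
    (fun i => ((q : ℝ) * m i - d i) ^ 2 * ((m i : ℝ) / d i)) h1B
  simp only [hd1, hm1, Nat.cast_one, mul_one, div_one] at e1 e2
  rw [hS] at e1; rw [hD] at e2
  have hb : (k : ℝ) * e + ((q : ℝ) - 1) < q * e := by
    have := (Nat.cast_lt (α := ℝ)).2 hbig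
    push_cast [Nat.cast_sub (by omega : 1 ≤ q)] at this
    exact this
  have f1 : ∑ i ∈ B.erase one, ((q : ℝ) * m i - d i) ^ 2
      = ((q : ℝ) - 1) * ((q : ℝ) * e - ((q : ℝ) - 1)) := by linarith
  have f2 : ∑ i ∈ B.erase one, ((q : ℝ) * m i - d i) ^ 2 * ((m i : ℝ) / d i)
      = ((q : ℝ) - 1) ^ 2 * (e - 1) := by linarith
  rw [f1, f2] at h
  have : ((q : ℝ) - 1) * ((q : ℝ) * e - ((q : ℝ) - 1)) ≤ ((q : ℝ) - 1) * (k * e) :=
    le_of_le_of_eq h (by ring)
  have := le_of_mul_le_mul_left this (by linarith)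
  linarith

/-- The case `q = 3`, `e = 2`: `v` is the character value at an element of order three. -/
theorem endgame_three {ι : Type*} [DecidableEq ι] (B : Finset ι) (one : ι) (h1B : one ∈ B)
    (d : ι → ℕ) (v : ι → ℤ) (hd1 : d one = 1) (hv1 : v one = 1)
    (hd : ∀ i ∈ B, i ≠ one → 2 ≤ d i)
    (hS : ∑ i ∈ B, v i ^ 2 = 3)
    (hO : ∑ i ∈ B, v i * (d i : ℤ) = 0)
    (hD : ∑ i ∈ B, ((v i : ℝ) ^ 3 / d i) = 3 / 2) : False := by
  classical
  have hS' : ∑ i ∈ (B.erase one), v i ^ 2 = 2 := by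
    have := Finset.add_sum_erase B (fun i => v i ^ 2) h1B
    simp only [hv1] at this
    omega
  set C := (B.erase one).filter (fun i => v i ≠ 0) with hC
  have hsum : ∀ i ∈ C, v i ^ 2 = 1 := by
    intro i hi
    have hle : v i ^ 2 ≤ 2 := hS' ▸ Finset.single_le_sum (f := fun i => v i ^ 2)
      (fun j _ => sq_nonneg _) (Finset.mem_of_mem_filter i hi)
    have h0 : v i ≠ 0 := (Finset.mem_filter.1 hi).2
    have : v i ≤ 1 := by nlinarith
    have : -1 ≤ v i := by nlinarith
    rcases (show v i = 1 ∨ v i = -1 by omega) with h | h <;> simp [h]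
  have hcard : C.card = 2 := by
    have h2 : ∑ i ∈ C, v i ^ 2 = 2 := by
      rw [← hS']
      refine Finset.sum_subset (Finset.filter_subset _ _) ?_
      intro i hi hni
      have : v i = 0 := by
        by_contra h; exact hni (Finset.mem_filter.2 ⟨hi, h⟩)
      simp [this]
    rw [Finset.sum_congr rfl hsum] at h2
    rw [Finset.sum_const, nsmul_eq_mul, mul_one] at h2
    exact_mod_cast h2
  obtain ⟨a, b, hab, hCab⟩ := Finset.card_eq_two.1 hcard
  have haC : a ∈ C := by simp [hCab]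
  have hbC : b ∈ C := by simp [hCab]
  have hrest : ∀ f : ι → ℝ, (∀ i ∈ B.erase one, v i = 0 → f i = 0) →
      ∑ i ∈ B, f i = f one + (f a + f b) := by
    intro f hf
    rw [← Finset.add_sum_erase B f h1B]
    congr 1
    rw [← Finset.sum_pair hab, ← hCab]
    refine (Finset.sum_subset (Finset.filter_subset _ _) ?_).symm
    intro i hi hni
    refine hf i hi ?_
    by_contra h; exact hni (Finset.mem_filter.2 ⟨hi, h⟩)
  have hO' : (∑ i ∈ B, (v i : ℝ) * (d i : ℝ)) = 0 := by exact_mod_cast hO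
  rw [hrest (fun i => (v i : ℝ) * (d i : ℝ)) (fun i _ h => by simp [h])] at hO'
  rw [hrest (fun i => (v i : ℝ) ^ 3 / d i) (fun i _ h => by simp [h])] at hD
  simp only [hv1, hd1, Int.cast_one, Nat.cast_one] at hO' hD
  have hda := hd a (Finset.mem_of_mem_erase (Finset.mem_of_mem_filter a haC))
    (Finset.ne_of_mem_erase (Finset.mem_of_mem_filter a haC))
  have hdb := hd b (Finset.mem_of_mem_erase (Finset.mem_of_mem_filter b hbC))
    (Finset.ne_of_mem_erase (Finset.mem_of_mem_filter b hbC))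
  have hda' : (2 : ℝ) ≤ d a := by exact_mod_cast hda
  have hdb' : (2 : ℝ) ≤ d b := by exact_mod_cast hdb
  have hva : v a = 1 ∨ v a = -1 := by
    have := hsum a haC
    rcases Int.eq_one_or_neg_one_of_mul_eq_one' (by rw [← sq]; exact this : v a * v a = 1) with h | h
    · exact Or.inl h.1
    · exact Or.inr h.1
  have hvb : v b = 1 ∨ v b = -1 := by
    have := hsum b hbC
    rcases Int.eq_one_or_neg_one_of_mul_eq_one' (by rw [← sq]; exact this : v b * v b = 1) with h | h
    · exact Or.inl h.1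
    · exact Or.inr h.1
  rcases hva with ha | ha <;> rcases hvb with hb | hb <;> simp only [ha, hb] at hO' hD <;>
    norm_num at hO' hD
  · linarith
  · have h : (d b : ℝ) = d a + 1 := by linarith
    rw [h] at hD
    field_simp at hD
    nlinarith
  · have h : (d a : ℝ) = d b + 1 := by linarith
    rw [h] at hD
    field_simp at hD
    nlinarith
  · linarith

end Cfsg.Agent.PairSol36
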